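import Mathlib.CategoryTheory.Sites.Over
import Mathlib.CategoryTheory.Sites.Pullback
import Mathlib.CategoryTheory.Sites.CoverLifting
import Mathlib.CategoryTheory.Adjunction.Triple

/-!
For a subterminal object `U`, extension along `C/U → C` is fully faithful on sheaves.
-/

set_option autoImplicit false

universe w v u

open CategoryTheory CategoryTheory.Limits Opposite

namespace Groth.Agent.OverFF

variable {C : Type u} [Category.{v} C] {U : C}

def forgetFullyFaithful (hU : ∀ V : C, Subsingleton (V ⟶ U)) : (Over.forget U).FullyFaithful where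
  preimage {X Y} f := Over.homMk f (haveI := hU X.left; Subsingleton.elim _ _)
  map_preimage _ := rfl
  preimage_map _ := by ext; rfl

variable (J : GrothendieckTopology C) (A : Type (max u v + 1)) [Category.{max u v} A]

theorem isIso_unit (hU : ∀ V : C, Subsingleton (V ⟶ U)) [HasLimitsOfSize.{max u v, max u v} A]
    [HasWeakSheafify J A] [∀ (P : (Over U)ᵒᵖ ⥤ A), (Over.forget U).op.HasLeftKanExtension P] :
    IsIso ((Over.forget U).sheafAdjunctionContinuous A (J.over U) J).unit := by
  haveI := (forgetFullyFaithful hU).full
  haveI := (forgetFullyFaithful hU).faithful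
  haveI : HasLimitsOfSize.{v, max u v} A := hasLimitsOfSizeShrink.{v, max u v, max u v, max u v} A
  haveI : ∀ P : (Over U)ᵒᵖ ⥤ A, (Over.forget U).op.HasPointwiseRightKanExtension P :=
    fun P X => inferInstance
  haveI : IsIso ((Over.forget U).op.ranAdjunction A).counit := by
    rw [Functor.ranAdjunction_counit]
    haveI : ∀ F, IsIso ((Over.forget U).op.ranCounit.app F : _ ⟶ (𝟭 ((Over U)ᵒᵖ ⥤ A)).obj F) :=
      fun F => inferInstance
    exact NatIso.isIso_of_isIso_app _
  let hran : ((Over.forget U).op.ran : _ ⥤ (Cᵒᵖ ⥤ A)).FullyFaithful :=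
    ((Over.forget U).op.ranAdjunction A).fullyFaithfulROfIsIsoCounit
  let hH : ((Over.forget U).sheafPushforwardCocontinuous A (J.over U) J).FullyFaithful :=
    Functor.FullyFaithful.ofCompFaithful (G := sheafToPresheaf J A)
      (((fullyFaithfulSheafToPresheaf (J.over U) A).comp hran).ofIso
        ((Over.forget U).sheafPushforwardCocontinuousCompSheafToPresheafIso A (J.over U) J).symm)
  let t : Adjunction.Triple ((Over.forget U).sheafPullback A (J.over U) J)
      ((Over.forget U).sheafPushforwardContinuous A (J.over U) J)
      ((Over.forget U).sheafPushforwardCocontinuous A (J.over U) J) :=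
    ⟨(Over.forget U).sheafAdjunctionContinuous A (J.over U) J,
      (Over.forget U).sheafAdjunctionCocontinuous A (J.over U) J⟩
  haveI := (t.fullyFaithfulEquiv.symm hH).full
  haveI := (t.fullyFaithfulEquiv.symm hH).faithful
  infer_instance

end Groth.Agent.OverFF
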